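import Cfsg.Agent.H81.DP.BtTD4
import Cfsg.Agent.H349.KD4.Zs
import Cfsg.Agent.H349.KD4.Fac
import Cfsg.Agent.H311.DQ.Abs
import Cfsg.Agent.S1106
import Cfsg.Agent.S0581

/-!
# S4247: the groups `³D₄(q)` in characteristic not in `π` (helper408)

`row_td4` : there is no configuration `Cfg π P K B` in `³D₄(q)` with `p ∉ π`.
-/

set_option autoImplicit false
set_option linter.unusedSectionVars false

namespace Cfsg.Agent.H408.DQ

open Subgroup Cfsg Cfsg.Lie Cfsg.Agent.H988.CPi Cfsg.Agent.H571.RV Cfsg.Agent.H817.DPi Cfsg.Agent.H56.Exc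
open Cfsg.Agent.OrdDiv Cfsg.Agent.H436 Cfsg.Agent.H902 Cfsg.Agent.H902.Names Cfsg.Agent.H915.GN Cfsg.Agent.H563.KG
open Cfsg.Agent.H349.KD4 Cfsg.Agent.H311.DQ Cfsg.Agent.H264.FKS Cfsg.Agent.H264.GN
open scoped Pointwise

/-- a solvable group of odd order, all of whose primes are big with automiser exponent `4`, is cyclic -/
theorem isCyclic_of_odd {G : Type*} [Group G] [Finite G] [Group.IsSolvable G] (hodd : Odd (Nat.card G))
    {m : ℕ} (hb : ∀ r : ℕ, r.Prime → r ∣ Nat.card G → Big G r m 4) : IsCyclic G := by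
  rcases subsingleton_or_nontrivial G with hs | hn
  · infer_instance
  obtain ⟨A, hA, hA1, -, hcomm⟩ := exists_abelian_normal (⊤ : Subgroup G) top_ne_bot
  obtain ⟨r, hr, hrA⟩ := Nat.exists_prime_and_dvd (n := Nat.card A) (by rw [Ne, Subgroup.card_eq_one]; exact hA1)
  have hbr := hb r hr (hrA.trans (Subgroup.card_subgroup_dvd_card A))
  have : Fact r.Prime := ⟨hr⟩
  let P : Subgroup G :=
    { carrier := {a | a ∈ A ∧ a ^ r = 1}
      one_mem' := ⟨one_mem _, one_pow _⟩
      mul_mem' := fun {a b} ha hb => ⟨mul_mem ha.1 hb.1, by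
        rw [(show Commute a b from hcomm a ha.1 b hb.1).mul_pow, ha.2, hb.2, one_mul]⟩
      inv_mem' := fun {a} ha => ⟨inv_mem ha.1, by rw [inv_pow, ha.2, inv_one]⟩ }
  have hPn : P.Normal := ⟨fun a ha g => ⟨hA.conj_mem a ha.1 g, by rw [conj_pow, ha.2, mul_one, mul_inv_cancel]⟩⟩
  have hPr : IsPGroup r P := by
    rw [IsPGroup.iff_orderOf]
    intro a
    have h1 : a ^ r = 1 := Subtype.ext a.2.2
    rcases (Nat.dvd_prime hr).1 (orderOf_dvd_of_pow_eq_one h1) with h2 | h2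
    · exact ⟨0, by rw [h2, pow_zero]⟩
    · exact ⟨1, by rw [h2, pow_one]⟩
  have hP1 : P ≠ ⊥ := by
    obtain ⟨a, ha⟩ := exists_prime_orderOf_dvd_card' r hrA
    intro h2
    have h3 : (a : G) ∈ P := ⟨a.2, by rw [← ha]; exact congrArg Subtype.val (pow_orderOf_eq_one a)⟩
    rw [h2, mem_bot] at h3
    have h4 : a = 1 := Subtype.ext h3
    rw [h4, orderOf_one] at ha
    exact hr.one_lt.ne ha
  obtain ⟨x, hx, hxn⟩ := hbr.exists_normal_zpowers hPn hPr hP1
  have hcen : ∀ y : G, Commute y x := by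
    intro y
    have h1 := hbr.aut x y hx (hxn.conj_mem x (mem_zpowers x) y)
    have h2 : Odd (orderOf y) := Odd.of_dvd_nat hodd (orderOf_dvd_natCard y)
    have h3 : Nat.Coprime 4 (orderOf y) := by
      rw [show (4 : ℕ) = 2 ^ 2 by norm_num]
      exact Nat.Coprime.pow_left 2 ((Nat.coprime_two_left).2 h2)
    have h4 : y ∈ zpowers (y ^ 4) := by
      obtain ⟨n, hn⟩ := exists_pow_eq_self_of_coprime h3
      exact ⟨n, by simpa using hn⟩
    obtain ⟨n, hn⟩ := h4
    have h5 : (y ^ 4) ^ n = y := hn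
    rw [← h5]
    exact h1.zpow_left n
  have h1 := hbr.cyc x hx
  have h2 : centralizer ({x} : Set G) = ⊤ := by
    rw [eq_top_iff]
    intro y _
    rw [mem_centralizer_singleton_iff]
    exact hcen y
  rw [h2] at h1
  exact isCyclic_of_surjective (Subgroup.topEquiv (G := G)) (Subgroup.topEquiv (G := G)).surjective

variable {p f : ℕ} {F : Type} [Field F] [Fintype F]

/-- proper subgroups whose index is prime to the class primes not dividing `f` -/
theorem card_dvd_of (tb : OrderTable.{0})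
    (hkn : ∀ (S : Type) [Group S] [Finite S], IsSimpleGroup S → IsKnownSimple' S)
    (hE : CycFixSolv.{0}) (hp : p.Prime) (hf : 1 ≤ f) (hK : Fintype.card F = (p ^ f) ^ 3)
    {M : Subgroup ↥(twistedD4 F (p ^ f))} (hM : M ≠ ⊤)
    (key : ∀ r, Prim (p ^ f) 12 r → ¬ r ∣ f → ¬ r ∣ M.index) : Nat.card M ∣ 4 * ncl 12 (p ^ f) := by
  have hq : 2 ≤ p ^ f := hp.two_le.trans (Nat.le_self_pow (by omega) p)
  by_cases hf13 : 13 ≤ f
  · refine (kz_TD4 tb hkn hE hp hf13 hK M fun r hr => key r (Cfsg.Agent.H946.KZ.prim_base hf hr) fun hd => ?_).resolve_left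
      hM
    have h1 := Cfsg.Agent.H946.KZ.lt_of_prim hp.two_le (by omega) hr
    have := Nat.le_of_dvd (by omega) hd
    omega
  · have h1 := (kfull_TD4 tb hkn hE hp hf hK M fun r hr => key r hr fun hd => ?_).resolve_left hM
    · rwa [m_eq hq] at h1
    · have h1 := Cfsg.Agent.H946.KZ.lt_of_prim hq (by norm_num) hr
      have := Nat.le_of_dvd (by omega) hd
      omega

/-- the order of the outer automorphism group -/
theorem out_dvd (hp : p.Prime) (hf : 1 ≤ f) (hK : Fintype.card F = (p ^ f) ^ 3) :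
    (inn ↥(twistedD4 F (p ^ f))).index ∣ 24 * f := by
  have hpp : IsPrimePow (p ^ f) := hp.isPrimePow.pow (by omega)
  obtain ⟨hs, hna⟩ := Cfsg.Agent.S1071.result hpp hK
  have hna' : ¬ ∀ x y : ↥(twistedD4 F (p ^ f)), x * y = y * x := fun h => hna ⟨⟨h⟩⟩
  have hT : IsNamed (.td4 (p ^ f)) ↥(twistedD4 F (p ^ f)) := by
    refine .mk' ⟨F, inferInstance, inferInstance, hK, ⟨MulEquiv.refl _⟩⟩ hpp ?_
    rw [show den (.td4 (p ^ f)) = 1 from rfl, one_mul]
    exact card_eq hp hf hK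
  obtain ⟨X, f', h1, h2, h3⟩ := exists_lie hp hT ⟨f, rfl⟩
  obtain ⟨c, h4, h5, -⟩ := Cfsg.Agent.H364.OutLie.card_out hna' h1 hT.real h2
  rw [show fld (.td4 (p ^ f)) = p ^ f from rfl] at h3
  obtain rfl := Nat.pow_right_injective hp.two_le h3
  rw [dd_td4 h1, mul_one] at h5
  have h6 : (inn ↥(twistedD4 F (p ^ f))).index = Nat.card (Cfsg.Out ↥(twistedD4 F (p ^ f))) := rfl
  rw [h6, h4]
  exact Nat.mul_dvd_mul_right h5 _

/-- **The split torus.** -/
theorem exists_torus (hp : p.Prime) (hf : 1 ≤ f) (hK : Fintype.card F = (p ^ f) ^ 3) :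
    ∃ T : Subgroup ↥(twistedD4 F (p ^ f)), Nat.card T = (p ^ f - 1) ^ 2 * ((p ^ f) ^ 2 + p ^ f + 1) ∧
      ∀ a ∈ T, ∀ b ∈ T, a * b = b * a := by
  have hpp : IsPrimePow (p ^ f) := hp.isPrimePow.pow (by omega)
  refine ⟨(chevD4.diagonalSubgroup F ⊓ twistedD4 F (p ^ f)).subgroupOf (twistedD4 F (p ^ f)), ?_, ?_⟩
  · rw [Nat.card_congr (Subgroup.subgroupOfEquivOfLe (inf_le_right :
      chevD4.diagonalSubgroup F ⊓ twistedD4 F (p ^ f) ≤ twistedD4 F (p ^ f))).toEquiv]
    exact Cfsg.Agent.S1106.result hpp hK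
  · intro a ha b hb
    rw [mem_subgroupOf, mem_inf] at ha hb
    obtain ⟨c, hc⟩ := Cfsg.Agent.ChevalleyStructure.D4RGD.diagonal_le_torus F ha.1
    obtain ⟨d, hd⟩ := Cfsg.Agent.ChevalleyStructure.D4RGD.diagonal_le_torus F hb.1
    apply Subtype.ext
    rw [Subgroup.coe_mul, Subgroup.coe_mul, show (a : GL chevD4.Idx F) = _ from hc,
      show (b : GL chevD4.Idx F) = _ from hd, Cfsg.Agent.ChevalleyStructure.D4NConj.torG_mul,
      Cfsg.Agent.ChevalleyStructure.D4NConj.torG_mul, mul_comm]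

/-- the factors of the order -/
theorem num_aux {q N i c d : ℕ} (hq : 2 ≤ q) (hN : N = q ^ 12 * (q ^ 2 - 1) * (q ^ 6 - 1) * (q ^ 8 + q ^ 4 + 1))
    (hi : c * i = N) (hc : c = q ^ 12 * (q ^ 6 - 1) * (q - 1) ∨ c = q ^ 12 * (q ^ 2 - 1) * (q ^ 3 - 1))
    (hd : (q - 1) ^ 2 * (q ^ 2 + q + 1) * d = N) {t : ℕ} (ht : t.Prime) (hti : ¬ t ∣ i) (htq : ¬ t ∣ q) : ¬ t ∣ d := by
  obtain ⟨m, rfl⟩ : ∃ m, q = m + 1 := ⟨q - 1, by omega⟩
  have hm : 0 < m := by omega
  have e1 : m + 1 - 1 = m := by omega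
  have e2 : (m + 1) ^ 2 - 1 = m * (m + 2) := by apply Nat.sub_eq_of_eq_add; ring
  have e3 : (m + 1) ^ 3 - 1 = m * (m ^ 2 + 3 * m + 3) := by apply Nat.sub_eq_of_eq_add; ring
  have e6 : (m + 1) ^ 6 - 1 = m * (m + 2) * (m ^ 2 + 3 * m + 3) * (m ^ 2 + m + 1) := by
    apply Nat.sub_eq_of_eq_add; ring
  have e8 : (m + 1) ^ 8 + (m + 1) ^ 4 + 1 =
      (m ^ 2 + 3 * m + 3) * (m ^ 2 + m + 1) * (m ^ 4 + 4 * m ^ 3 + 5 * m ^ 2 + 2 * m + 1) := by ring
  rw [e2, e6, e8] at hN
  rw [e1] at hd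
  rw [e1, e2, e3, e6] at hc
  set a := m + 2 with ha
  have hb : (m + 1) ^ 2 + (m + 1) + 1 = m ^ 2 + 3 * m + 3 := by ring
  rw [hb] at hd
  set b := m ^ 2 + 3 * m + 3 with hbdef
  set c' := m ^ 2 + m + 1 with hc'
  set e := m ^ 4 + 4 * m ^ 3 + 5 * m ^ 2 + 2 * m + 1 with he
  have hbpos : 0 < b := by omega
  have hapos : 0 < a := by omega
  have hc'pos : 0 < c' := by omega
  have hdd : d = (m + 1) ^ 12 * a ^ 2 * b * c' ^ 2 * e := by
    apply Nat.eq_of_mul_eq_mul_left (show 0 < m ^ 2 * b by positivity)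
    rw [hd, hN]; ring
  have hii : i = a * (b * c' * e) ∨ i = a * c' * (b * c' * e) := by
    rcases hc with h | h
    · left
      apply Nat.eq_of_mul_eq_mul_left (show 0 < (m + 1) ^ 12 * (m * a * b * c') * m by positivity)
      rw [h] at hi
      rw [hi, hN]; ring
    · right
      apply Nat.eq_of_mul_eq_mul_left (show 0 < (m + 1) ^ 12 * (m * a) * (m * b) by positivity)
      rw [h] at hi
      rw [hi, hN]; ring
  have key : ¬ t ∣ a ∧ ¬ t ∣ b ∧ ¬ t ∣ c' ∧ ¬ t ∣ e := by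
    refine ⟨fun h => hti ?_, fun h => hti ?_, fun h => hti ?_, fun h => hti ?_⟩ <;>
      rcases hii with rfl | rfl
    · exact h.mul_right _
    · exact (h.mul_right _).mul_right _
    · exact ((h.mul_right _).mul_right _).mul_left _
    · exact ((h.mul_right _).mul_right _).mul_left _
    · exact ((h.mul_left _).mul_right _).mul_left _
    · exact ((h.mul_left _).mul_right _).mul_left _
    · exact (h.mul_left _).mul_left _
    · exact (h.mul_left _).mul_left _
  intro h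
  rw [hdd] at h
  rcases ht.dvd_mul.1 h with h | h
  · rcases ht.dvd_mul.1 h with h | h
    · rcases ht.dvd_mul.1 h with h | h
      · rcases ht.dvd_mul.1 h with h | h
        · exact htq (ht.dvd_of_dvd_pow h)
        · exact key.1 (ht.dvd_of_dvd_pow h)
      · exact key.2.1 h
    · exact key.2.2.1 (ht.dvd_of_dvd_pow h)
  · exact key.2.2.2 h

/-- **The row `³D₄(q)`, `p ∉ π`.** -/
theorem row_td4 (tb : OrderTable.{0})
    (hkn : ∀ (S : Type) [Group S] [Finite S], IsSimpleGroup S → IsKnownSimple' S)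
    (hE : CycFixSolv.{0}) (hp : p.Prime) (hf : 1 ≤ f) (hK : Fintype.card F = (p ^ f) ^ 3) {π : Set ℕ}
    {P : Subgroup ↥(twistedD4 F (p ^ f))} {K B : Subgroup (MulAut ↥(twistedD4 F (p ^ f)))} (hc : Cfg π P K B)
    (hpπ : p ∉ π) : False := by
  have hq : 2 ≤ p ^ f := hp.two_le.trans (Nat.le_self_pow (by omega) p)
  have hpp : IsPrimePow (p ^ f) := hp.isPrimePow.pow (by omega)
  have : Fact p.Prime := ⟨hp⟩
  have : CharP F p := Cfsg.Agent.H290.ElReg.charP_of_pow (a := f * 3) hp (by rw [hK, ← pow_mul])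
  obtain ⟨hs, hna⟩ := Cfsg.Agent.S1071.result hpp hK
  have hcard := Cfsg.Agent.S1067.result hpp hK
  have hbig : ∀ r, Prim (p ^ f) 12 r → Big ↥(twistedD4 F (p ^ f)) r (ncl 12 (p ^ f)) 4 := fun r hr =>
    big_TD4_12 hpp hK (cast_ncl (by omega)) hr
  have hodd : Odd (Nat.card P) := by
    rw [← Nat.not_even_iff_odd, even_iff_two_dvd]
    exact fun h => hc.two (hc.hall.1 2 Nat.prime_two h)
  have hsol := solv hc
  -- no class prime divides `|P|`
  have hcls : ∀ r, Prim (p ^ f) 12 r → ¬ r ∣ Nat.card P := by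
    intro r hr hd
    have h1 := solv_dvd hE hp hf hK P hsol hr hd
    have h2 : Nat.card P ∣ ncl 12 (p ^ f) := by
      refine Nat.Coprime.dvd_of_dvd_mul_left ?_ h1
      rw [show (4 : ℕ) = 2 ^ 2 by norm_num]
      exact Nat.Coprime.pow_right 2 ((Nat.coprime_two_right).2 hodd)
    have h3 : IsCyclic P := isCyclic_of_odd hodd (m := ncl 12 (p ^ f)) fun t ht htd =>
      (hbig t (prim_of_dvd cls12 (by omega) ht (htd.trans h2))).subgroup P
    apply hc.nnil
    let _ := IsCyclic.commGroup (α := P)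
    infer_instance
  -- the index of `tr B`
  have hM := tr_ne_top hna hc
  have hidx : (tr B).index ∣ Nat.card P * (Nat.card (tr K) * (24 * f)) :=
    (index_dvd hc).trans (Nat.mul_dvd_mul_left _ ((card_K_dvd hna K).trans (Nat.mul_dvd_mul_left _ (out_dvd hp hf hK))))
  have hMd : Nat.card (tr B) ∣ 4 * ncl 12 (p ^ f) := by
    refine card_dvd_of tb hkn hE hp hf hK hM fun r hr hrf hd => ?_
    have h12 := Cfsg.Agent.H946.KZ.lt_of_prim hq (by norm_num) hr
    rcases hr.prime.dvd_mul.1 (hd.trans hidx) with h1 | h1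
    · exact hcls r hr h1
    rcases hr.prime.dvd_mul.1 h1 with h1 | h1
    · exact not_dvd_tr_K hc (hbig r hr) h1
    rcases hr.prime.dvd_mul.1 h1 with h1 | h1
    · have h2 : r ∣ 2 ^ 3 * 3 := h1
      rcases hr.prime.dvd_mul.1 h2 with h3 | h3
      · have := Nat.le_of_dvd (by norm_num) (hr.prime.dvd_of_dvd_pow h3)
        omega
      · have := Nat.le_of_dvd (by norm_num) h3
        omega
    · exact hrf h1
  -- `p` divides `|tr K|`
  have hpK : p ∣ Nat.card (tr K) := by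
    by_contra hpK
    have h1 : p ^ (f * 12) ∣ (4 * ncl 12 (p ^ f)) * (Nat.card P * (Nat.card (tr K) * (24 * f))) := by
      refine dvd_trans ?_ (Nat.mul_dvd_mul hMd hidx)
      rw [Subgroup.card_mul_index, hcard, pow_mul, mul_assoc, mul_assoc]
      exact dvd_mul_right _ _
    have h2 : ¬ p ∣ ncl 12 (p ^ f) := by
      intro h
      have h3 := prim_of_dvd cls12 (q := p ^ f) (by omega) hp h
      exact h3.not_dvd (dvd_pow_self p (by omega))
    have h3 : ¬ p ∣ Nat.card P := fun h => hpπ (hc.hall.1 p hp h)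
    have h4 : p ^ (f * 12) ∣ 96 * f := by
      have h5 : (4 * ncl 12 (p ^ f)) * (Nat.card P * (Nat.card (tr K) * (24 * f))) =
          (ncl 12 (p ^ f) * Nat.card P * Nat.card (tr K)) * (96 * f) := by ring
      rw [h5] at h1
      refine prime_pow_dvd hp h1 fun h6 => ?_
      rcases hp.dvd_mul.1 h6 with h6 | h6
      · rcases hp.dvd_mul.1 h6 with h6 | h6
        · exact h2 h6
        · exact h3 h6
      · exact hpK h6
    have h5 := Nat.le_of_dvd (by omega) h4
    have h6 : 96 * f < p ^ (f * 12) := by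
      have h7 : f < 2 ^ f := Nat.lt_pow_self (by norm_num)
      have h8 : 2 ^ f * 2 ^ 7 ≤ p ^ (f * 12) := by
        rw [← pow_add]
        exact (Nat.pow_le_pow_right (by norm_num) (by omega)).trans (Nat.pow_le_pow_left hp.two_le _)
      omega
    omega
  -- a parabolic subgroup
  obtain ⟨y, hy⟩ := exists_prime_orderOf_dvd_card' p hpK
  have hy' : orderOf (y : ↥(twistedD4 F (p ^ f))) = p := by rw [Subgroup.orderOf_coe]; exact hy
  have hyP : P ≤ centralizer {(y : ↥(twistedD4 F (p ^ f)))} := by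
    intro x hx
    have h1 := tr_K_le hc hx y.2
    rw [mem_centralizer_singleton_iff] at h1 ⊢
    exact h1.symm
  have hV : IsPGroup p (zpowers (y : ↥(twistedD4 F (p ^ f)))) := by
    apply IsPGroup.of_card (n := 1)
    rw [Nat.card_zpowers, hy', pow_one]
  have hV1 : zpowers (y : ↥(twistedD4 F (p ^ f))) ≠ ⊥ := by
    rw [Ne, zpowers_eq_bot]
    intro h
    rw [h, orderOf_one] at hy'
    exact hp.one_lt.ne hy'
  obtain ⟨Q, -, hVQ, hQ⟩ := Cfsg.Agent.H81.DP.bt_td4 hpp hK hV hV1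
  have hPQ : P ≤ Q := by
    refine le_trans ?_ hVQ
    refine hyP.trans ?_
    intro x hx
    rw [mem_centralizer_singleton_iff] at hx
    rw [mem_normalizer_iff]
    intro z
    have h1 : x * z * x⁻¹ ∈ zpowers (y : ↥(twistedD4 F (p ^ f))) ↔ z ∈ zpowers (y : ↥(twistedD4 F (p ^ f))) := by
      constructor
      · rintro ⟨n, hn⟩
        have hn' : (y : ↥(twistedD4 F (p ^ f))) ^ n = x * z * x⁻¹ := hn
        have hcm : Commute x ((y : ↥(twistedD4 F (p ^ f))) ^ n) := Commute.zpow_right hx n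
        have h2 : z = x⁻¹ * (x * z * x⁻¹) * x := by group
        rw [h2, ← hn', hcm.inv_left.eq, inv_mul_cancel_right]
        exact ⟨n, rfl⟩
      · rintro ⟨n, hn⟩
        have hn' : (y : ↥(twistedD4 F (p ^ f))) ^ n = z := hn
        have hcm : Commute x ((y : ↥(twistedD4 F (p ^ f))) ^ n) := Commute.zpow_right hx n
        rw [← hn', hcm.eq, mul_inv_cancel_right]
        exact ⟨n, rfl⟩
    exact h1.symm
  have hQi : ∀ t : ℕ, t.Prime → t ∈ π → ¬ t ∣ Q.index := fun t ht htπ h =>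
    hc.hall.2 t ht htπ (h.trans (Subgroup.index_dvd_of_le hPQ))
  -- the torus
  obtain ⟨T, hT, hab⟩ := exists_torus hp hf hK
  have hTi : ∀ t : ℕ, t.Prime → t ∈ π → ¬ t ∣ T.index := by
    intro t ht htπ
    refine num_aux hq rfl ((Subgroup.card_mul_index Q).trans hcard) hQ ?_ ht (hQi t ht htπ) fun h => ?_
    · rw [← hT, Subgroup.card_mul_index T, hcard]
    · obtain rfl := (Nat.prime_dvd_prime_iff_eq ht hp).1 (ht.dvd_of_dvd_pow h)
      exact hpπ htπ
  have hTsol : Group.IsSolvable T := by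
    let _ : CommGroup T := { (inferInstance : Group T) with mul_comm := fun a b => Subtype.ext (hab _ a.2 _ b.2) }
    have : Group.IsNilpotent T := CommGroup.isNilpotent
    infer_instance
  obtain ⟨X, hXT, hX1, hX2⟩ := Cfsg.Agent.OddOrderLocal.HallPi.exists_isPiHallOf hTsol π
  have hXi : ∀ t : ℕ, t.Prime → t ∈ π → ¬ t ∣ X.index := by
    intro t ht htπ h
    rw [← Subgroup.relIndex_mul_index hXT] at h
    rcases ht.dvd_mul.1 h with h | h
    · exact hX2 t ht htπ h
    · exact hTi t ht htπ h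
  have hXab : ∀ a b : X, a * b = b * a := fun a b => Subtype.ext (hab _ (hXT a.2) _ (hXT b.2))
  have hXn : Group.IsNilpotent X := by
    let _ : CommGroup X := { (inferInstance : Group X) with mul_comm := hXab }
    exact CommGroup.isNilpotent
  obtain ⟨g, hg⟩ := Cfsg.Agent.S0581.result X P hXn (by
    refine Nat.coprime_of_dvd fun t ht h1 h2 => hXi t ht (hX1 t ht h1) h2) (by
    intro t ht htd
    have htπ := hc.hall.1 t ht htd
    have h1 : t ∣ Nat.card X * X.index := by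
      rw [Subgroup.card_mul_index]
      exact htd.trans (Subgroup.card_subgroup_dvd_card P)
    exact (ht.dvd_mul.1 h1).resolve_right (hXi t ht htπ))
  apply hc.nnil
  have hPab : ∀ a b : P, a * b = b * a := by
    intro a b
    obtain ⟨a', ha', ha⟩ := hg a.2
    obtain ⟨b', hb', hb⟩ := hg b.2
    apply Subtype.ext
    rw [Subgroup.coe_mul, Subgroup.coe_mul, ← ha, ← hb]
    have h1 : a' * b' = b' * a' := hab _ (hXT ha') _ (hXT hb')
    show MulAut.conj g a' * MulAut.conj g b' = MulAut.conj g b' * MulAut.conj g a'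
    rw [← map_mul, h1, map_mul]
  let _ : CommGroup P := { (inferInstance : Group P) with mul_comm := hPab }
  exact CommGroup.isNilpotent

end Cfsg.Agent.H408.DQ
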